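import Cfsg.Agent.Lib.Golay.Sextet
import Cfsg.Agent.Lib.PG.Iso
import Cfsg.Agent.Lib.PG.Hom

/-! The ternary code of length 12, its hexads and its monomial automorphisms. -/

set_option autoImplicit false
set_option maxRecDepth 100000
set_option exponentiation.threshold 100000

namespace Cfsg.Agent.Tern

open Cfsg Cfsg.Agent.PG Equiv
open Cfsg.Agent.Golay (pc cntN cntN_eq ncard_fiber)
open scoped Pointwise

def ix (p : ArrayPt) : ℕ := 3 * p.1.val + p.2.val
def tp (j : ℕ) : ArrayPt := (Fin.ofNat 4 (j / 3), (j : ZMod 3))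

theorem ix_lt : ∀ p : ArrayPt, ix p < 12 := by decide
theorem tp_ix : ∀ p : ArrayPt, tp (ix p) = p := by decide
theorem ix_tp : ∀ j < 12, ix (tp j) = j := by decide
theorem ix_inj {p q : ArrayPt} (h : ix p = ix q) : p = q := by rw [← tp_ix p, h, tp_ix]
theorem forall_tp {P : ArrayPt → Prop} (h : ∀ j < 12, P (tp j)) (p : ArrayPt) : P p := by
  rw [← tp_ix p]; exact h _ (ix_lt p)

theorem mem_code {x : ArrayPt → ZMod 3} : x ∈ ternaryGolayCode ↔
    ∃ s : ZMod 3, (∀ i : Fin 4, ∑ r : ZMod 3, x (i, r) = -s) ∧ ∀ a b : ZMod 3,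
      ∑ i : Fin 4, x (i, a * ![0, 1, 1, 1] i + b * ![1, 0, 1, 2] i) = s := by
  refine exists_congr fun s => and_congr_right fun _ => ⟨fun h a b => ?_, fun h t ht => ?_⟩
  · exact h (a • ![0, 1, 1, 1] + b • ![1, 0, 1, 2]) (Submodule.mem_span_pair.2 ⟨a, b, rfl⟩)
  · obtain ⟨a, b, rfl⟩ := Submodule.mem_span_pair.1 ht
    exact h a b

instance (x : ArrayPt → ZMod 3) : Decidable (x ∈ ternaryGolayCode) :=
  decidable_of_iff _ mem_code.symm

/-- entry `j` of a row packed in base 4 -/
def en (r j : ℕ) : ℕ := Nat.land (Nat.shiftRight r (Nat.mul 2 j)) 3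

/-- entry `j` of the word with information digits `m` -/
def wv (m j : ℕ) : ℕ :=
  Nat.add (Nat.add (Nat.add (Nat.mul (Nat.mod m 3) (en 0x950401 j))
    (Nat.mul (Nat.mod (Nat.div m 3) 3) (en 0x8a8404 j)))
    (Nat.add (Nat.mul (Nat.mod (Nat.div m 9) 3) (en 0x584410 j))
    (Nat.mul (Nat.mod (Nat.div m 27) 3) (en 0x198840 j))))
    (Nat.add (Nat.mul (Nat.mod (Nat.div m 81) 3) (en 0x924900 j))
    (Nat.mul (Nat.mod (Nat.div m 243) 3) (en 0xa95000 j)))

def bw (r : ℕ) : ArrayPt → ZMod 3 := fun p => (en r (ix p) : ZMod 3)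
def W (m : ℕ) : ArrayPt → ZMod 3 := fun p => (wv m (ix p) : ZMod 3)
def Rs : List ℕ := [0x950401, 0x8a8404, 0x584410, 0x198840, 0x924900, 0xa95000]

theorem bw_mem : ∀ r ∈ Rs, bw r ∈ ternaryGolayCode := by decide +kernel

theorem W_induction {P : (ArrayPt → ZMod 3) → Prop} (hb : ∀ r ∈ Rs, P (bw r))
    (ha : ∀ x y, P x → P y → P (x + y)) (hs : ∀ (a : ZMod 3) x, P x → P (a • x)) (m : ℕ) :
    P (W m) := by
  have e : W m = ((((m % 3 : ℕ) : ZMod 3) • bw 0x950401 + ((m / 3 % 3 : ℕ) : ZMod 3) • bw 0x8a8404) +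
      (((m / 9 % 3 : ℕ) : ZMod 3) • bw 0x584410 + ((m / 27 % 3 : ℕ) : ZMod 3) • bw 0x198840)) +
      (((m / 81 % 3 : ℕ) : ZMod 3) • bw 0x924900 + ((m / 243 % 3 : ℕ) : ZMod 3) • bw 0xa95000) := by
    funext p
    simp only [W, bw, Pi.add_apply, Pi.smul_apply, smul_eq_mul, ← Nat.cast_mul, ← Nat.cast_add]
    rfl
  rw [e]
  refine ha _ _ (ha _ _ (ha _ _ ?_ ?_) (ha _ _ ?_ ?_)) (ha _ _ ?_ ?_) <;>
    exact hs _ _ (hb _ (by decide))

theorem W_mem (m : ℕ) : W m ∈ ternaryGolayCode :=
  W_induction bw_mem (fun _ _ => ternaryGolayCode.add_mem)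
    (fun a _ => ternaryGolayCode.smul_mem a) m

def ext6 (a b c d e f : ZMod 3) : ArrayPt → ZMod 3 :=
  fun p => [0, 0, 0, 0, 0, a, 0, b, c, d, e, f].getD (ix p) 0

theorem ext6_zero : ∀ a b c d e f : ZMod 3, ext6 a b c d e f ∈ ternaryGolayCode →
    a = 0 ∧ b = 0 ∧ c = 0 ∧ d = 0 ∧ e = 0 ∧ f = 0 := by decide +kernel

theorem eq_zero_of_info {x : ArrayPt → ZMod 3} (hx : x ∈ ternaryGolayCode)
    (h : ∀ j ∈ [0, 1, 2, 3, 4, 6], x (tp j) = 0) : x = 0 := by
  have e : x = ext6 (x (tp 5)) (x (tp 7)) (x (tp 8)) (x (tp 9)) (x (tp 10)) (x (tp 11)) := by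
    funext p
    induction p using forall_tp with
    | h j hj =>
      unfold ext6
      rw [ix_tp j hj]
      interval_cases j
      all_goals first | rfl | exact h _ (by decide)
  rw [e] at hx
  obtain ⟨h1, h2, h3, h4, h5, h6⟩ := ext6_zero _ _ _ _ _ _ hx
  rw [e, h1, h2, h3, h4, h5, h6]
  decide

theorem W_info : ∀ a b c d e f : ZMod 3,
    W (a.val + 3 * b.val + 9 * c.val + 27 * d.val + 81 * e.val + 243 * f.val) (tp 0) = a ∧
    W (a.val + 3 * b.val + 9 * c.val + 27 * d.val + 81 * e.val + 243 * f.val) (tp 1) = b ∧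
    W (a.val + 3 * b.val + 9 * c.val + 27 * d.val + 81 * e.val + 243 * f.val) (tp 2) = c ∧
    W (a.val + 3 * b.val + 9 * c.val + 27 * d.val + 81 * e.val + 243 * f.val) (tp 3) = d ∧
    W (a.val + 3 * b.val + 9 * c.val + 27 * d.val + 81 * e.val + 243 * f.val) (tp 4) = e ∧
    W (a.val + 3 * b.val + 9 * c.val + 27 * d.val + 81 * e.val + 243 * f.val) (tp 6) = f := by
  decide +kernel

theorem exists_W {x : ArrayPt → ZMod 3} (hx : x ∈ ternaryGolayCode) : ∃ m < 729, W m = x := by
  have hv : ∀ a : ZMod 3, a.val < 3 := fun a => ZMod.val_lt a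
  obtain ⟨h1, h2, h3, h4, h5, h6⟩ :=
    W_info (x (tp 0)) (x (tp 1)) (x (tp 2)) (x (tp 3)) (x (tp 4)) (x (tp 6))
  refine ⟨(x (tp 0)).val + 3 * (x (tp 1)).val + 9 * (x (tp 2)).val + 27 * (x (tp 3)).val +
    81 * (x (tp 4)).val + 243 * (x (tp 6)).val, ?_, ?_⟩
  · have := hv (x (tp 0)); have := hv (x (tp 1)); have := hv (x (tp 2)); have := hv (x (tp 3))
    have := hv (x (tp 4)); have := hv (x (tp 6)); omega
  · rw [← sub_eq_zero]
    apply eq_zero_of_info (ternaryGolayCode.sub_mem (W_mem _) hx)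
    intro j hj
    simp only [List.mem_cons, List.not_mem_nil, or_false] at hj
    rw [Pi.sub_apply, sub_eq_zero]
    rcases hj with rfl | rfl | rfl | rfl | rfl | rfl <;> assumption

theorem code_induction {P : (ArrayPt → ZMod 3) → Prop} (hb : ∀ r ∈ Rs, P (bw r))
    (ha : ∀ x y, P x → P y → P (x + y)) (hs : ∀ (a : ZMod 3) x, P x → P (a • x))
    {x : ArrayPt → ZMod 3} (hx : x ∈ ternaryGolayCode) : P x := by
  obtain ⟨m, _, rfl⟩ := exists_W hx
  exact W_induction hb ha hs m

theorem W_dec : ∀ m < 729, m = (W m (tp 0)).val + 3 * (W m (tp 1)).val + 9 * (W m (tp 2)).val +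
    27 * (W m (tp 3)).val + 81 * (W m (tp 4)).val + 243 * (W m (tp 6)).val := by decide +kernel

theorem W_inj {a b : ℕ} (ha : a < 729) (hb : b < 729) (h : W a = W b) : a = b := by
  rw [W_dec a ha, W_dec b hb, h]

theorem ncard_code {P : (ArrayPt → ZMod 3) → Prop} {p : ℕ → Bool}
    (h : ∀ m < 729, P (W m) ↔ p m = true) :
    {x | x ∈ ternaryGolayCode ∧ P x}.ncard = cntN 729 p := by
  rw [cntN_eq, ← Set.ncard_coe_finset, ← Set.InjOn.ncard_image (f := W)]
  · congr 1
    ext s
    simp only [Set.mem_ofPred_eq, Finset.coe_filter, Finset.mem_range, Set.mem_image]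
    constructor
    · rintro ⟨h1, h2⟩
      obtain ⟨m, hm, rfl⟩ := exists_W h1
      exact ⟨m, ⟨hm, (h m hm).1 h2⟩, rfl⟩
    · rintro ⟨m, ⟨hm, h1⟩, rfl⟩
      exact ⟨W_mem m, (h m hm).2 h1⟩
  · intro a ha b hb e
    simp only [Finset.coe_filter, Finset.mem_range, Set.mem_ofPred_eq] at ha hb
    exact W_inj ha.1 hb.1 e

theorem dot_zero {x y : ArrayPt → ZMod 3} (hx : x ∈ ternaryGolayCode) (hy : y ∈ ternaryGolayCode) :
    ∑ p, x p * y p = 0 := by
  have h0 : ∀ r ∈ Rs, ∀ r' ∈ Rs, ∑ p, bw r p * bw r' p = 0 := by decide +kernel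
  refine code_induction (P := fun x => ∑ p, x p * y p = 0) (fun r hr => ?_) (fun a b ha hb => ?_)
    (fun c a ha => ?_) hx
  · refine code_induction (P := fun y => ∑ p, bw r p * y p = 0) (h0 r hr) (fun a b ha hb => ?_)
      (fun c a ha => ?_) hy
    · simp only [Pi.add_apply, mul_add, Finset.sum_add_distrib, ha, hb, add_zero]
    · simp only [Pi.smul_apply, smul_eq_mul, mul_left_comm _ c, ← Finset.mul_sum, ha, mul_zero]
  · simp only [Pi.add_apply, add_mul, Finset.sum_add_distrib, ha, hb, add_zero]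
  · simp only [Pi.smul_apply, smul_eq_mul, mul_assoc, ← Finset.mul_sum, ha, mul_zero]

/-! ### Supports -/

def ofM (m : ℕ) : Finset ArrayPt := Finset.univ.filter fun p => m.testBit (ix p) = true

theorem mem_ofM {m : ℕ} {p : ArrayPt} : p ∈ ofM m ↔ m.testBit (ix p) = true := by simp [ofM]

theorem exists_M (s : Finset ArrayPt) : ∃ m < 4096, ofM m = s := by
  refine ⟨Nat.ofBits fun i : Fin 12 => decide (tp i ∈ s), Nat.ofBits_lt_two_pow _, ?_⟩
  ext p
  rw [mem_ofM, Nat.testBit_ofBits_lt _ _ (ix_lt p)]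
  simp [tp_ix]

theorem ofM_inj {a b : ℕ} (ha : a < 4096) (hb : b < 4096) (h : ofM a = ofM b) : a = b := by
  apply Nat.eq_of_testBit_eq
  intro i
  by_cases hi : i < 12
  · have := @mem_ofM a (tp i)
    rw [h, mem_ofM, ix_tp i hi] at this
    exact (Bool.eq_iff_iff.2 this).symm
  · have : 4096 ≤ 2 ^ i := Nat.pow_le_pow_right (n := 2) (by norm_num) (show 12 ≤ i by omega)
    rw [Nat.testBit_eq_false_of_lt (by omega), Nat.testBit_eq_false_of_lt (by omega)]

theorem card_ofM {m : ℕ} (hm : m < 4096) : (ofM m).card = pc m := by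
  rw [← Golay.card_ofMask, Golay.card_ofMask_eq_cnt]
  unfold cnt
  apply Finset.card_bij (fun p _ => ix p)
  · intro p hp
    have := ix_lt p
    exact Finset.mem_filter.2 ⟨Finset.mem_range.2 (by omega), mem_ofM.1 hp⟩
  · intro p _ q _ h; exact ix_inj h
  · intro i hi
    have h1 := (Finset.mem_filter.1 hi).2
    have h2 : i < 12 := by
      by_contra h
      have : 4096 ≤ 2 ^ i := Nat.pow_le_pow_right (n := 2) (by norm_num) (show 12 ≤ i by omega)
      rw [Nat.testBit_eq_false_of_lt (by omega)] at h1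
      cases h1
    exact ⟨tp i, by rw [mem_ofM, ix_tp i h2]; exact h1, ix_tp i h2⟩

/-- the support mask of the word number `m` -/
noncomputable def sm (m : ℕ) : ℕ :=
  Nat.rec (motive := fun _ => ℕ) 0 (fun j a =>
    iteB (Nat.beq (Nat.mod (wv m j) 3) 0) a (Nat.lor a (Nat.shiftLeft 1 j))) 12

theorem sm_facts : allN 729 (fun m => force (sm m) fun s => andB (Nat.blt s 4096) <|
    andB (allN 12 fun j => Bool.xor (bit s j) (Nat.beq (Nat.mod (wv m j) 3) 0)) <|
    force (pc s) fun c => orB (Nat.beq c 9) <| orB (andB (Nat.beq c 6) (bit 0x1000000000000000000000000000000000000000200041000000000000000000000000010000204000000000400100200010000000000008000000000000000000001000000000240000000100100000800000400002000000000010000040020000000081000000000020000000040000040200008000000000000000000000000000004010000200000010000020040001000000000080000010000000010080000020000400000000000200400000000084000200000000000000200100400000010000008000000040000000020000200008040000000000000400200000004200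000000080001000080000800000000000000000000000000000000000000000010000100008000100000000042000000040020000000000000201000040000400000000200000001000000800000020080040000000000000040002100000000020040000000000020000400000100800000000800000100000000008000200400000800000040000802000000000000000000000000000001000040200000200000000400000000008100000000400200000800000000004000020000010000080080000000240000000008000000000000000000001000000000000800040080020000000002040000800000000000000000000000008200040000000000000000000000000000000000000008000000000000000 s)) <|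
      orB (Nat.beq c 12) (Nat.beq m 0)) = true := by decide +kernel

def BH : ℕ := 0x1000000000000000000000000000000000000000200041000000000000000000000000010000204000000000400100200010000000000008000000000000000000001000000000240000000100100000800000400002000000000010000040020000000081000000000020000000040000040200008000000000000000000000000000004010000200000010000020040001000000000080000010000000010080000020000400000000000200400000000084000200000000000000200100400000010000008000000040000000020000200008040000000000000400200000004200000000080001000080000800000000000000000000000000000000000000000010000100008000100000000042000000040020000000000000201000040000400000000200000001000000800000020080040000000000000040002100000000020040000000000020000400000100800000000800000100000000008000200400000800000040000802000000000000000000000000000001000040200000200000000400000000008100000000400200000800000000004000020000010000080080000000240000000008000000000000000000001000000000000800040080020000000002040000800000000000000000000000008200040000000000000000000000000000000000000008000000000000000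

theorem sm_facts' {m : ℕ} (hm : m < 729) : sm m < 4096 ∧
    (∀ j < 12, (sm m).testBit j = true ↔ wv m j % 3 ≠ 0) ∧
    (pc (sm m) = 9 ∨ (pc (sm m) = 6 ∧ BH.testBit (sm m) = true) ∨ pc (sm m) = 12 ∨ m = 0) := by
  have := allN_spec sm_facts m hm
  simp only [force_eq, andB_eq, orB_eq, Bool.and_eq_true, Bool.or_eq_true, Nat.beq_eq, Nat.blt_eq,
    bit_eq] at this
  refine ⟨this.1, fun j hj => ?_, this.2.2⟩
  have h := allN_spec this.2.1 j hj
  rw [ne_eq, ← Nat.beq_eq]
  change ((sm m).testBit j ^^ (wv m j % 3).beq 0) = true at h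
  revert h
  cases (sm m).testBit j <;> cases (wv m j % 3).beq 0 <;> simp

theorem supp_W {m : ℕ} (hm : m < 729) : ternarySupport (W m) = ofM (sm m) := by
  ext p
  rw [mem_ofM, (sm_facts' hm).2.1 _ (ix_lt p)]
  simp only [ternarySupport, Finset.mem_filter, Finset.mem_univ, true_and, W, ne_eq,
    ZMod.natCast_eq_zero_iff, Nat.dvd_iff_mod_eq_zero]

theorem card_supp_W {m : ℕ} (hm : m < 729) : (ternarySupport (W m)).card = pc (sm m) := by
  rw [supp_W hm, card_ofM (sm_facts' hm).1]

theorem weights {x : ArrayPt → ZMod 3} (hx : x ∈ ternaryGolayCode) (h0 : x ≠ 0) :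
    (ternarySupport x).card = 6 ∨ (ternarySupport x).card = 9 ∨ (ternarySupport x).card = 12 := by
  obtain ⟨m, hm, rfl⟩ := exists_W hx
  rw [card_supp_W hm]
  rcases (sm_facts' hm).2.2 with h | h | h | rfl
  · exact Or.inr (Or.inl h)
  · exact Or.inl h.1
  · exact Or.inr (Or.inr h)
  · exact absurd (by decide) h0

theorem ncard_wt (k : ℕ) :
    {x : ArrayPt → ZMod 3 | x ∈ ternaryGolayCode ∧ (ternarySupport x).card = k}.ncard =
      cntN 729 fun m => Nat.beq (pc (sm m)) k :=
  ncard_code fun m hm => by rw [card_supp_W hm, Nat.beq_eq]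

/-- the hexads -/
def Hx : Set (Finset ArrayPt) :=
  {h : Finset ArrayPt | ∃ x ∈ ternaryGolayCode, ternarySupport x = h ∧ h.card = 6}

def HM : List ℕ := [1, 3, 4, 5, 9, 10, 11, 12, 13, 14, 15, 17, 27, 28, 29, 30, 32, 33, 34, 35, 36, 37, 38, 39, 43, 45, 47, 48, 49, 51, 81, 82, 83, 84, 85, 86, 87, 89, 90, 91, 95, 96, 97, 99, 100, 101, 102, 105, 108, 109, 110, 112, 114, 117, 120, 126, 134, 135, 137, 138, 141, 142, 144, 146, 154, 156, 243, 244, 245, 246, 247, 248, 249, 250, 252, 254, 255, 258, 259, 261, 262, 263, 264, 269, 270, 271, 272, 273, 276, 279, 284, 289, 294, 297, 299, 301, 303, 305, 306, 307, 315, 318, 324, 325, 327, 330, 332, 333, 335, 342, 346, 353, 354, 369, 378, 379, 393, 405, 406, 407, 410, 411, 415, 417, 423, 429, 432, 439, 441, 459, 462, 479]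

theorem HM_facts : orL (HM.map fun m => Nat.shiftLeft 1 (sm m)) = BH ∧
    allL HM (fun m => andB (Nat.blt m 729) (Nat.beq (pc (sm m)) 6)) = true := by decide +kernel

theorem mem_Hx {h : ℕ} (hh : h < 4096) : ofM h ∈ Hx ↔ BH.testBit h = true := by
  constructor
  · rintro ⟨x, hx, e, hc⟩
    obtain ⟨m, hm, rfl⟩ := exists_W hx
    rw [supp_W hm] at e
    obtain ⟨h1, _, h3⟩ := sm_facts' hm
    have := ofM_inj h1 hh e
    subst this
    rw [card_ofM hh] at hc
    rcases h3 with h | h | h | rfl
    · omega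
    · exact h.2
    · omega
    · exact absurd hc (by decide +kernel)
  · intro hb
    rw [← HM_facts.1, Golay.testBit_orL'] at hb
    obtain ⟨a, ha, hb⟩ := hb
    obtain ⟨m, hm, rfl⟩ := List.mem_map.1 ha
    have h1 := allL_spec HM_facts.2 m hm
    simp only [andB_eq, Bool.and_eq_true, Nat.beq_eq, Nat.blt_eq] at h1
    have e : sm m = h := by
      change (1 <<< sm m).testBit h = true at hb
      rw [Nat.one_shiftLeft, Nat.testBit_two_pow] at hb
      simpa using hb
    subst e
    exact ⟨W m, W_mem m, supp_W h1.1, by rw [card_ofM hh, h1.2]⟩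

theorem BH_lt {h : ℕ} (hb : BH.testBit h = true) : h < 4096 := by
  by_contra hc
  have h1 : BH < 2 ^ 4096 := by decide +kernel
  have : 2 ^ 4096 ≤ 2 ^ h := Nat.pow_le_pow_right (by norm_num) (by omega)
  rw [Nat.testBit_eq_false_of_lt (by omega)] at hb
  cases hb

theorem ncard_Hx : Hx.ncard = 132 := by
  rw [← cardB_spec (l := 9) (v := BH) (s := 132) (by decide +kernel),
    ← Set.InjOn.ncard_image (f := ofM) (s := bset BH) fun a ha b hb e => ofM_inj (BH_lt ha) (BH_lt hb) e]
  congr 1
  ext s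
  constructor
  · intro hs
    obtain ⟨m, hm, rfl⟩ := exists_M s
    exact ⟨m, (mem_Hx hm).1 hs, rfl⟩
  · rintro ⟨m, hm, rfl⟩
    exact (mem_Hx (BH_lt hm)).2 hm

theorem ofM_insert (t : ℕ) (q : ArrayPt) : ofM (t ||| 1 <<< ix q) = insert q (ofM t) := by
  ext p
  rw [mem_ofM, Finset.mem_insert, mem_ofM, Nat.testBit_or, Nat.one_shiftLeft, Nat.testBit_two_pow,
    Bool.or_eq_true, decide_eq_true_iff, or_comm]
  exact or_congr_left ⟨fun h => (ix_inj h).symm, fun h => by rw [h]⟩

theorem lor_lt {t : ℕ} (ht : t < 4096) (q : ArrayPt) : t ||| 1 <<< ix q < 4096 := by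
  apply Nat.or_lt_two_pow (n := 12) ht
  rw [Nat.one_shiftLeft]
  exact Nat.pow_lt_pow_right (by norm_num) (ix_lt q)

theorem six_facts : allN 4096 (fun t => orB (Bool.not (Nat.beq (pc t) 5))
    (Nat.beq (cntN 12 fun j => bit BH (Nat.lor t (Nat.shiftLeft 1 j))) 1)) = true := by
  decide +kernel

theorem steiner_Hx : IsSteinerSystem 5 6 Hx := by
  refine ⟨fun b hb => by obtain ⟨_, _, _, h⟩ := hb; exact h, fun s hs => ?_⟩
  obtain ⟨t, ht, rfl⟩ := exists_M s
  have h1 := allN_spec six_facts t ht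
  rw [← card_ofM ht, hs, cntN_eq] at h1
  simp only [orB_eq, Bool.or_eq_true, Nat.beq_eq, bit_eq] at h1
  obtain ⟨j, hj⟩ := Finset.card_eq_one.1 (h1.resolve_left (by decide))
  have key : ∀ q, insert q (ofM t) ∈ Hx ↔ ix q = j := by
    intro q
    rw [← ofM_insert, mem_Hx (lor_lt ht q), ← Finset.mem_singleton (a := j), ← hj, Finset.mem_filter,
      Finset.mem_range]
    exact ⟨fun h => ⟨ix_lt q, h⟩, fun h => h.2⟩
  have hj' : j < 12 :=
    Finset.mem_range.1 (Finset.mem_filter.1 (hj ▸ Finset.mem_singleton_self j)).1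
  refine ⟨insert (tp j) (ofM t), ⟨(key _).2 (ix_tp j hj'), Finset.subset_insert _ _⟩, ?_⟩
  rintro b ⟨hb, hsb⟩
  have hc : b.card = 6 := by obtain ⟨_, _, _, h⟩ := hb; exact h
  obtain ⟨q, _, rfl⟩ := Finset.exists_eq_insert_iff.2 ⟨hsb, by rw [hs, hc]⟩
  rw [← (key q).1 hb, tp_ix]

/-! ### Monomial automorphisms -/

/-- the monomial map preserves the code -/
def Pres (σ : Perm ArrayPt) (c : ArrayPt → (ZMod 3)ˣ) : Prop :=
  ∀ x ∈ ternaryGolayCode, monomialMap σ c x ∈ ternaryGolayCode

theorem sign_kernel {c : ArrayPt → (ZMod 3)ˣ} (h : Pres 1 c) : (∀ p, c p = 1) ∨ ∀ p, c p = -1 := by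
  have hu : ∀ u : (ZMod 3)ˣ, u = 1 ∨ u = -1 := by decide
  by_contra hc
  rw [not_or, not_forall, not_forall] at hc
  obtain ⟨⟨q, hq⟩, p, hp⟩ := hc
  have hq' := (hu _).resolve_left hq
  have hp' := (hu _).resolve_right hp
  have hne : p ≠ q := by rintro rfl; exact hp hq'
  obtain ⟨s, hs, -, hs5⟩ := Finset.exists_subsuperset_card_eq (Finset.subset_univ ({p, q} : Finset _))
    (n := 5) (by rw [Finset.card_pair hne]; omega) (by decide)
  obtain ⟨b, ⟨⟨x, hx, rfl, hb⟩, hsb⟩, -⟩ := steiner_Hx.2 s hs5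
  have hps : p ∈ ternarySupport x := hsb (hs (by simp))
  have hqs : q ∈ ternarySupport x := hsb (hs (by simp))
  have hy := ternaryGolayCode.add_mem hx (h x hx)
  have ha : ∀ a : ZMod 3, a ≠ 0 → a + 1 * a ≠ 0 := by decide
  have hsub : ternarySupport (x + monomialMap 1 c x) ⊆ (ternarySupport x).erase q := by
    intro r hr
    have hr' : x r + (c r : ZMod 3) * x r ≠ 0 := (Finset.mem_filter.1 hr).2
    refine Finset.mem_erase.2 ⟨?_, Finset.mem_filter.2 ⟨Finset.mem_univ _, fun h0 => ?_⟩⟩
    · rintro rfl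
      apply hr'
      rw [hq']; simp
    · apply hr'
      rw [h0]; simp
  have h5 := Finset.card_le_card hsub
  rw [Finset.card_erase_of_mem hqs, hb] at h5
  have hne0 : x + monomialMap 1 c x ≠ 0 := by
    intro e
    have : x p + (c p : ZMod 3) * x p = 0 := congrFun e p
    rw [hp'] at this
    exact ha _ (Finset.mem_filter.1 hps).2 this
  have := weights hy hne0
  omega

theorem mono_mono (σ τ : Perm ArrayPt) (c d : ArrayPt → (ZMod 3)ˣ) (x : ArrayPt → ZMod 3) :
    monomialMap σ c (monomialMap τ d x) = monomialMap (σ * τ) (fun i => c i * d (σ.symm i)) x := by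
  funext i
  simp only [monomialMap, Units.val_mul, mul_assoc]
  rfl

theorem mono_one (x : ArrayPt → ZMod 3) : monomialMap 1 (fun _ => (1 : (ZMod 3)ˣ)) x = x := by
  funext i
  simp only [monomialMap, Units.val_one, one_mul]
  rfl

theorem Pres.mul {σ τ : Perm ArrayPt} {c d : ArrayPt → (ZMod 3)ˣ} (h : Pres σ c) (h' : Pres τ d) :
    Pres (σ * τ) (fun i => c i * d (σ.symm i)) := fun x hx => by
  rw [← mono_mono]; exact h _ (h' x hx)

theorem Pres.inv {σ : Perm ArrayPt} {c : ArrayPt → (ZMod 3)ˣ} (h : Pres σ c) :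
    Pres σ⁻¹ (fun i => (c (σ i))⁻¹) := by
  have e : ∀ x, monomialMap σ⁻¹ (fun i => (c (σ i))⁻¹) (monomialMap σ c x) = x := by
    intro x
    rw [mono_mono, inv_mul_cancel]
    conv_rhs => rw [← mono_one x]
    congr 1
    funext i
    exact inv_mul_cancel _
  have hinj : Function.Injective fun x : ternaryGolayCode =>
      (⟨monomialMap σ c x, h x x.2⟩ : ternaryGolayCode) := fun x y hxy => by
    apply Subtype.ext
    rw [← e x, ← e y]
    exact congrArg _ (congrArg Subtype.val hxy)
  intro y hy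
  obtain ⟨x, hx⟩ := Finite.injective_iff_surjective.1 hinj ⟨y, hy⟩
  have : monomialMap σ c x = y := congrArg Subtype.val hx
  rw [← this, e]
  exact x.2

/-- the permutation parts -/
def MG : Subgroup (Perm ArrayPt) where
  carrier := {σ | ∃ c, Pres σ c}
  one_mem' := ⟨fun _ => 1, fun x hx => by rw [mono_one]; exact hx⟩
  mul_mem' := fun ⟨_, h⟩ ⟨_, h'⟩ => ⟨_, h.mul h'⟩
  inv_mem' := fun ⟨_, h⟩ => ⟨_, h.inv⟩

theorem pres_of_basis {σ : Perm ArrayPt} {c : ArrayPt → (ZMod 3)ˣ}
    (h : ∀ r ∈ Rs, monomialMap σ c (bw r) ∈ ternaryGolayCode) : Pres σ c := by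
  intro x hx
  refine code_induction (P := fun x => monomialMap σ c x ∈ ternaryGolayCode) h
    (fun a b ha hb => ?_) (fun a x hx => ?_) hx
  · convert ternaryGolayCode.add_mem ha hb using 1
    funext i; simp only [monomialMap, Pi.add_apply, mul_add]
  · convert ternaryGolayCode.smul_mem a hx using 1
    funext i; simp only [monomialMap, Pi.smul_apply, smul_eq_mul, mul_left_comm]

theorem supp_mono (σ : Perm ArrayPt) (c : ArrayPt → (ZMod 3)ˣ) (x : ArrayPt → ZMod 3) :
    ternarySupport (monomialMap σ c x) = σ • ternarySupport x := by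
  ext p
  rw [← Finset.inv_smul_mem_iff]
  simp only [ternarySupport, Finset.mem_filter, Finset.mem_univ, true_and, monomialMap, ne_eq,
    mul_eq_zero, Units.ne_zero, false_or]
  rfl

theorem MG_le : MG ≤ setSystemAut Hx := by
  rintro σ ⟨c, h⟩
  rw [MulAction.mem_stabilizer_iff]
  apply Set.eq_of_subset_of_ncard_le _ _ (Set.toFinite _)
  · rintro _ ⟨_, ⟨x, hx, rfl, hc⟩, rfl⟩
    exact ⟨_, h x hx, supp_mono σ c x, by rw [← hc]; exact Finset.card_smul_finset _ _⟩
  · rw [Set.ncard_smul_set]

def mk (l : List ℕ) : ℕ := l.foldr (fun j a => a ||| 1 <<< j) 0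

theorem ofM_mk (l : List ArrayPt) : ofM (mk (l.map ix)) = l.toFinset ∧ mk (l.map ix) < 4096 := by
  induction l with
  | nil => exact ⟨by decide, by decide⟩
  | cons a l ih =>
    refine ⟨?_, lor_lt ih.2 a⟩
    rw [List.toFinset_cons, ← ih.1, ← ofM_insert]
    rfl

theorem aut_hex {g : Perm ArrayPt} (hg : g ∈ setSystemAut Hx) (l : List ℕ)
    (h : BH.testBit (mk ((l.map tp).map ix)) = true) :
    BH.testBit (mk ((l.map fun j => g (tp j)).map ix)) = true := by
  rw [← mem_Hx (ofM_mk _).2, (ofM_mk _).1] at h ⊢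
  have h1 : g • (l.map tp).toFinset ∈ g • Hx := Set.smul_mem_smul_set h
  rw [MulAction.mem_stabilizer_iff.1 hg] at h1
  convert h1 using 1
  ext p
  rw [← Finset.inv_smul_mem_iff]
  simp only [List.mem_toFinset, List.mem_map, Perm.smul_def]
  exact exists_congr fun j => and_congr_right fun _ => Perm.eq_inv_iff_eq.symm

theorem rigid {g : Perm ArrayPt} (hg : g ∈ setSystemAut Hx) (h : ∀ j < 5, g (tp j) = tp j) :
    g = 1 := by
  have h0 := h 0 (by omega); have h1 := h 1 (by omega); have h2 := h 2 (by omega)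
  have h3 := h 3 (by omega); have h4 := h 4 (by omega)
  have h5 : g (tp 5) = tp 5 := by
    have a := aut_hex hg [0, 1, 2, 3, 4, 5] (by decide +kernel)
    simp only [List.map_cons, List.map_nil, h0, h1, h2, h3, h4] at a
    revert a
    generalize g (tp 5) = y
    revert y
    decide +kernel
  have h678 : g (tp 6) = tp 6 ∧ g (tp 7) = tp 7 ∧ g (tp 8) = tp 8 := by
    have a0 := aut_hex hg [0, 1, 2, 6, 7, 8] (by decide +kernel)
    have a1 := aut_hex hg [1, 2, 3, 4, 6, 7] (by decide +kernel)
    have a2 := aut_hex hg [0, 2, 4, 5, 6, 8] (by decide +kernel)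
    simp only [List.map_cons, List.map_nil, h0, h1, h2, h3, h4, h5] at a0 a1 a2
    revert a0 a1 a2
    generalize g (tp 6) = x
    generalize g (tp 7) = y
    generalize g (tp 8) = z
    revert x y z
    decide +kernel
  obtain ⟨h6, h7, h8⟩ := h678
  have h9 : g (tp 9) = tp 9 := by
    have a := aut_hex hg [0, 1, 2, 3, 6, 9] (by decide +kernel)
    simp only [List.map_cons, List.map_nil, h0, h1, h2, h3, h4, h5, h6] at a
    revert a
    generalize g (tp 9) = y
    revert y
    decide +kernel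
  have h10 : g (tp 10) = tp 10 := by
    have a := aut_hex hg [0, 2, 3, 4, 6, 10] (by decide +kernel)
    simp only [List.map_cons, List.map_nil, h0, h1, h2, h3, h4, h5, h6] at a
    revert a
    generalize g (tp 10) = y
    revert y
    decide +kernel
  have h11 : g (tp 11) = tp 11 := by
    have a := aut_hex hg [0, 1, 2, 4, 6, 11] (by decide +kernel)
    simp only [List.map_cons, List.map_nil, h0, h1, h2, h3, h4, h5, h6] at a
    revert a
    generalize g (tp 11) = y
    revert y
    decide +kernel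
  ext1 p
  induction p using forall_tp with
  | h j hj => interval_cases j <;> assumption

theorem card_aut_le : Nat.card (setSystemAut Hx) ≤ 95040 := by
  have hi : Function.Injective fun i : Fin 5 => tp i := by decide
  let f : setSystemAut Hx → (Fin 5 ↪ ArrayPt) := fun g =>
    ⟨fun i => (g : Perm ArrayPt) (tp i), (g : Perm ArrayPt).injective.comp hi⟩
  have hf : Function.Injective f := by
    intro g g' e
    have := rigid (g := ((g⁻¹ * g' : setSystemAut Hx) : Perm ArrayPt)) (g⁻¹ * g').2 fun j hj => by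
      have e1 : (g : Perm ArrayPt) (tp j) = (g' : Perm ArrayPt) (tp j) :=
        congrArg (fun t : Fin 5 ↪ ArrayPt => t ⟨j, hj⟩) e
      rw [Subgroup.coe_mul, Perm.mul_apply, ← e1, Subgroup.coe_inv]
      simp
    exact inv_mul_eq_one.1 (Subtype.ext this)
  refine (Nat.card_le_card_of_injective f hf).trans ?_
  rw [Nat.card_eq_fintype_card, Fintype.card_embedding_eq]
  decide

noncomputable def An0 : Net :=
 (.cons 8 0x42
 (.cons 4 0xb
 (.cons 2 0x220
 (.cons 1 0x511
 (.cons 2 0x22
 (.cons 4 0x400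
 (.cons 8 0x4b
 .nil)))))))

noncomputable def An1 : Net :=
 (.cons 8 0x24
 (.cons 4 0x20c
 (.cons 2 0x21
 (.cons 1 0x414
 (.cons 2 0x222
 (.cons 4 0x200
 (.cons 8 0x28
 .nil)))))))

noncomputable def A : List Net := [An0, An1]

theorem hA : okA (2 ^ 4) A = true := by decide +kernel


def mkP (l l' : List ℕ) (h1 : ∀ p, tp (l'.getD (ix (tp (l.getD (ix p) 0))) 0) = p)
    (h2 : ∀ p, tp (l.getD (ix (tp (l'.getD (ix p) 0))) 0) = p) : Perm ArrayPt :=
  ⟨fun p => tp (l.getD (ix p) 0), fun p => tp (l'.getD (ix p) 0), h1, h2⟩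

def sg (l : List Bool) (p : ArrayPt) : (ZMod 3)ˣ := if l.getD (ix p) false then -1 else 1

theorem acts : ∀ σ ∈ K A 0, ∃ g : MG, Acts (fun i => tp (i - 0)) (bset (ivl 0 (0 + 12))) g σ := by
  refine acts_K_of_gens fun j _ hj => ?_
  have : j < 2 := hj
  interval_cases j
  · exact ⟨⟨mkP [11, 8, 2, 10, 3, 9, 1, 0, 5, 7, 6, 4] [7, 6, 2, 4, 11, 8, 10, 9, 1, 5, 3, 0] (by decide) (by decide), sg [false, true, false, true, true, true, false, true, false, true, false, false], pres_of_basis (by decide +kernel)⟩,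
      acts_of_imgs hA (imgs := [11, 8, 2, 10, 3, 9, 1, 0, 5, 7, 6, 4]) (by decide +kernel) (by decide +kernel)⟩
  · exact ⟨⟨mkP [6, 0, 7, 5, 3, 2, 10, 4, 8, 9, 11, 1] [1, 11, 5, 4, 7, 3, 0, 2, 8, 9, 6, 10] (by decide) (by decide), sg [false, false, false, true, true, false, false, true, true, true, true, false], pres_of_basis (by decide +kernel)⟩,
      acts_of_imgs hA (imgs := [6, 0, 7, 5, 3, 2, 10, 4, 8, 9, 11, 1]) (by decide +kernel) (by decide +kernel)⟩

theorem card_MG_ge : 95040 ≤ Nat.card MG := by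
  have := card_ge_of_lb hA (H := (⊤ : Subgroup MG)) (l := 1) (t := 0)
    (fun σ hσ => (acts σ hσ).imp fun g hg => ⟨Subgroup.mem_top g, hg⟩)
    (injOn_shift (by decide)) (lv := [(0, [[0x200], [0x204]], 5, 12),
  (1, [[0x20206020400]], 11, 11),
  (2, [[0x2040004], [0x2020202020204]], 5, 10),
  (3, [[0x20204040202040004020602], [0x20602040004040202040202]], 4, 9),
  (4, [[0x20204000006000006020206], [0x204040000040400040000040204020202]], 3, 8)]) (by decide +kernel)
    (by simp only [bset, Set.mem_ofPred_eq]; decide +kernel)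
  rwa [Subgroup.card_top] at this

theorem MG_eq : MG = setSystemAut Hx :=
  Subgroup.eq_of_le_of_card_ge MG_le (card_aut_le.trans card_MG_ge)

theorem card_MG : Nat.card MG = 95040 :=
  le_antisymm (MG_eq ▸ card_aut_le) card_MG_ge

theorem card_mon :
    Nat.card {f : Perm ArrayPt × (ArrayPt → (ZMod 3)ˣ) // Pres f.1 f.2} = 190080 := by
  have h := ncard_fiber (P := {f : Perm ArrayPt × (ArrayPt → (ZMod 3)ˣ) | Pres f.1 f.2})
    (Q := (MG : Set (Perm ArrayPt))) (Set.toFinite _) (Set.toFinite _) Prod.fst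
    (fun f hf => ⟨f.2, hf⟩) (c := 2) (by
      rintro σ ⟨c, hc⟩
      rw [Set.ncard_eq_two]
      refine ⟨(σ, c), (σ, fun i => -c i), fun e => ?_, ?_⟩
      · have := congrFun (congrArg Prod.snd e) (tp 0)
        revert this
        dsimp only
        generalize c (tp 0) = u
        revert u
        decide
      · ext ⟨τ, d⟩
        simp only [Set.mem_ofPred_eq, Set.mem_insert_iff, Set.mem_singleton_iff, Prod.mk.injEq]
        constructor
        · rintro ⟨h1, rfl⟩
          have h2 := h1.mul hc.inv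
          rw [mul_inv_cancel] at h2
          simp only [Equiv.apply_symm_apply] at h2
          rcases sign_kernel h2 with h | h
          · exact Or.inl ⟨rfl, funext fun p => mul_inv_eq_one.1 (h p)⟩
          · exact Or.inr ⟨rfl, funext fun p => by rw [mul_inv_eq_iff_eq_mul.1 (h p), neg_one_mul]⟩
        · rintro (⟨rfl, rfl⟩ | ⟨rfl, rfl⟩)
          · exact ⟨hc, rfl⟩
          · refine ⟨fun x hx => ?_, rfl⟩
            convert ternaryGolayCode.neg_mem (hc x hx) using 1
            funext i
            simp only [monomialMap, Units.val_neg, neg_mul, Pi.neg_apply])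
  have h2 : (MG : Set (Perm ArrayPt)).ncard = 95040 := card_MG
  rw [h2] at h
  exact h

end Cfsg.Agent.Tern
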